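import Groth.Agent.ProjFormLib.Proj
import Groth.Agent.H0Lib.Group
import Groth.Agent.SmDefLib.Van
import Groth.Agent.CohCmpLib.HomLift
import Groth.Agent.S1937
import Groth.Agent.S7795

/-!
# Invariant differentials of abelian schemes
-/

set_option autoImplicit false
set_option linter.style.haveILetI false

universe u

open CategoryTheory CategoryTheory.Limits AlgebraicGeometry TopologicalSpace Opposite MonoidalCategory
  CartesianMonoidalCategory
open ProjFormLib KFlatLib

noncomputable section

namespace Groth.Agent.InvDiff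

variable {X Y : Scheme.{u}} {E : X.Modules} {n : ℕ} {U : X.Opens}

/-- The linear combination of a frame on sections. -/
def comb (e : Fin n → Γ(E, U)) {V : X.Opens} (h : V ≤ U) (c : Fin n → Γ(X, V)) : Γ(E, V) :=
  ∑ i, c i • res E h (e i)

theorem ger_comb (e : Fin n → Γ(E, U)) {V : X.Opens} (h : V ≤ U) (c : Fin n → Γ(X, V)) (y : X) (hy : y ∈ V) :
    ger E y hy (comb e h c) =
      Fintype.linearCombination (X.presheaf.stalk y) (fun i => ger E y (h hy) (e i))
        (fun i => X.presheaf.germ V y hy (c i)) := by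
  rw [Fintype.linearCombination_apply]
  refine (map_sum (E.presheaf.germ V y hy).hom _ _).trans (Finset.sum_congr rfl fun i _ => ?_)
  refine (ger_smul E y hy _ _).trans ?_
  rw [ger_res]

theorem res_comb (e : Fin n → Γ(E, U)) {V W : X.Opens} (h : V ≤ U) (h' : W ≤ V) (c : Fin n → Γ(X, V)) :
    res E h' (comb e h c) = comb e (h'.trans h) fun i => X.presheaf.map (homOfLE h').op (c i) := by
  refine section_ext _ _ fun y hy => ?_
  rw [ger_res, ger_comb, ger_comb]
  congr 1
  funext i
  exact (X.presheaf.germ_res_apply (homOfLE h') y hy (c i)).symm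

theorem comb_injective {e : Fin n → Γ(E, U)} (he : IsFrame E e) {V : X.Opens} (h : V ≤ U) :
    Function.Injective (comb e h) := fun c c' hcc' => funext fun i => by
  refine X.IsSheaf.section_ext fun y hy => ?_
  have hg : X.presheaf.germ V y hy (c i) = X.presheaf.germ V y hy (c' i) := by
    have := congrArg (ger E y hy) hcc'
    rw [ger_comb, ger_comb] at this
    exact congr_fun ((he y (h hy)).1 this) i
  obtain ⟨W, hW, iU, iV, e'⟩ := X.presheaf.germ_eq y hy hy _ _ hg
  obtain rfl : iU = iV := Subsingleton.elim _ _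
  exact ⟨W, iU.le, hW, e'⟩

theorem comb_surjective {e : Fin n → Γ(E, U)} (he : IsFrame E e) {V : X.Opens} (h : V ≤ U) :
    Function.Surjective (comb e h) := by
  intro t
  have near : ∀ y : V, ∃ (W : X.Opens) (hW : W ≤ V), y.1 ∈ W ∧
      ∃ c : Fin n → Γ(X, W), comb e (hW.trans h) c = res E hW t := fun y => by
    obtain ⟨a, ha⟩ := (he y.1 (h y.2)).2 (ger E y.1 y.2 t)
    choose Wi hWi s hs using fun i => X.presheaf.exists_germ_eq (a i)
    let W₀ : X.Opens := V ⊓ Finset.univ.inf Wi
    have hW₀ : y.1 ∈ W₀ := by
      refine ⟨y.2, ?_⟩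
      change y.1 ∈ ((Finset.univ.inf Wi : X.Opens) : Set X)
      rw [Opens.coe_finset_inf, Finset.inf_eq_iInf]
      simp only [Function.comp_apply, Set.iInf_eq_iInter, Set.mem_iInter]
      exact fun i _ => hWi i
    let c₀ := fun i => X.presheaf.map (homOfLE (inf_le_right.trans (Finset.inf_le (Finset.mem_univ i)) : W₀ ≤ Wi i)).op
      (s i)
    have hg : ger E y.1 hW₀ (comb e (inf_le_left.trans h) c₀) = ger E y.1 hW₀ (res E inf_le_left t) := by
      rw [ger_comb, ger_res, ← ha]
      refine congrArg _ (funext fun i => ?_)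
      exact (X.presheaf.germ_res_apply _ y.1 hW₀ (s i)).trans (hs i)
    obtain ⟨W, hW, iU, iV, e'⟩ := E.presheaf.germ_eq y.1 hW₀ hW₀ _ _ hg
    obtain rfl : iU = iV := Subsingleton.elim _ _
    refine ⟨W, iU.le.trans inf_le_left, hW, fun i => X.presheaf.map (homOfLE iU.le).op (c₀ i), ?_⟩
    rw [← res_comb e (inf_le_left.trans h) iU.le c₀]
    exact e'.trans (ConcreteCategory.congr_hom (E.presheaf.map_comp _ _).symm t)
  choose W hW hyW c hc using near
  have hcov : V ≤ iSup W := fun y hy => Opens.mem_iSup.2 ⟨⟨y, hy⟩, hyW _⟩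
  have hglue : ∀ i, ∃ g : Γ(X, V), ∀ y, X.presheaf.map (homOfLE (hW y)).op g = c y i := fun i => by
    have hcc : ∀ y z, X.presheaf.map (homOfLE (inf_le_left : W y ⊓ W z ≤ W y)).op (c y i) =
        X.presheaf.map (homOfLE (inf_le_right : W y ⊓ W z ≤ W z)).op (c z i) := fun y z => by
      refine congr_fun (comb_injective he ((inf_le_left.trans (hW y)).trans h)
        (a₁ := fun i => X.presheaf.map (homOfLE (inf_le_left : W y ⊓ W z ≤ W y)).op (c y i))
        (a₂ := fun i => X.presheaf.map (homOfLE (inf_le_right : W y ⊓ W z ≤ W z)).op (c z i)) ?_) i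
      rw [← res_comb e ((hW y).trans h) inf_le_left, hc, ← res_comb e ((hW z).trans h) inf_le_right, hc]
      exact (ConcreteCategory.congr_hom (E.presheaf.map_comp _ _).symm t).trans
        (ConcreteCategory.congr_hom (E.presheaf.map_comp (homOfLE (hW z)).op
          (homOfLE (inf_le_right : W y ⊓ W z ≤ W z)).op) t)
    obtain ⟨g, hg, -⟩ := TopCat.Sheaf.existsUnique_gluing' X.sheaf W V (fun y => homOfLE (hW y)) hcov
      (fun y => c y i) hcc
    exact ⟨g, hg⟩
  choose g hg using hglue
  refine ⟨g, section_ext _ _ fun y hy => ?_⟩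
  rw [← ger_res E (hW ⟨y, hy⟩) y (hyW _) (comb e h g), res_comb]
  simp only [hg]
  rw [hc, ger_res]

theorem comb_bijective {e : Fin n → Γ(E, U)} (he : IsFrame E e) {V : X.Opens} (h : V ≤ U) :
    Function.Bijective (comb e h) := ⟨comb_injective he h, comb_surjective he h⟩

/-- The unit on a finite locally free module is an isomorphism when functions are preserved. -/
theorem isIso_unit (f : Y ⟶ X) (hf : ∀ V : X.Opens, Function.Bijective (f.app V).hom)
    (hE : FlatMod.IsFinLocFree E) :
    IsIso ((Scheme.Modules.pullbackPushforwardAdjunction f).unit.app E) := by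
  refine isIso_of_sections _ fun x => ?_
  obtain ⟨U, n, e, hx, he⟩ := exists_frame hE x
  refine ⟨U, hx, fun V hV => ?_⟩
  let η := (Scheme.Modules.pullbackPushforwardAdjunction f).unit.app E
  have h1 : (η.app V) ∘ comb e hV =
      (fun c => comb (fun i => puSec f (e i)) (fun y hy => hV hy : f ⁻¹ᵁ V ≤ f ⁻¹ᵁ U) c) ∘
        fun c i => (f.app V) (c i) := funext fun c => by
    refine (map_sum (η.app V).hom _ _).trans (Finset.sum_congr rfl fun i _ => ?_)
    refine (η.app_smul (c i) _).trans ?_
    exact congrArg (fun m => (f.app V (c i)) • (show Γ(pb f E, f ⁻¹ᵁ V) from m)) (puSec_res f E hV (e i))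
  have h2 : Function.Bijective ((η.app V) ∘ comb e hV) := by
    rw [h1]
    exact (comb_bijective (he.pull f) _).comp
      ⟨fun a b hab => funext fun i => (hf V).1 (congr_fun hab i), (hf V).2.comp_left⟩
  exact (Function.Bijective.of_comp_iff _ (comb_bijective he hV)).1 h2

/-- The adjunction attached to a section of a morphism has invertible unit. -/
theorem isIso_unit_comp {S A : Scheme.{u}} (f : A ⟶ S) (e : S ⟶ A) (h : e ≫ f = 𝟙 S) :
    IsIso ((Scheme.Modules.pullbackPushforwardAdjunction f).comp
      (Scheme.Modules.pullbackPushforwardAdjunction e)).unit := by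
  let adj := (Scheme.Modules.pullbackPushforwardAdjunction f).comp (Scheme.Modules.pullbackPushforwardAdjunction e)
  let i : Scheme.Modules.pushforward e ⋙ Scheme.Modules.pushforward f ≅ 𝟭 _ :=
    Scheme.Modules.pushforwardComp e f ≪≫ Scheme.Modules.pushforwardCongr h ≪≫ Scheme.Modules.pushforwardId S
  haveI : (Scheme.Modules.pullback f ⋙ Scheme.Modules.pullback e).IsEquivalence :=
    Functor.isEquivalence_of_iso (Adjunction.leftAdjointUniq Adjunction.id (adj.ofNatIsoRight i))
  exact inferInstanceAs (IsIso adj.unit)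

/-- Every global differential is invariant. -/
theorem main {S : Scheme.{u}} (A : Over S) [GrpObj A] [IsProper A.hom] [Flat A.hom]
    [LocallyOfFinitePresentation A.hom] [GeometricallyReduced A.hom] [GeometricallyConnected A.hom] :
    Function.Bijective
      (((Scheme.Modules.pullbackPushforwardAdjunction (MonObj.one (X := A)).left).unit.app
        (Omega.sheaf A.hom)).app ⊤).hom := by
  haveI : Smooth A.hom := Groth.Agent.S7795.result A
  obtain ⟨θ⟩ := (Groth.Agent.S1937.result S A).1
  let e : S ⟶ A.left := (MonObj.one (X := A)).left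
  let C := Omega.conormal (MonObj.one (X := A)).left
  have hef : e ≫ A.hom = 𝟙 S := Over.w (MonObj.one (X := A))
  let adjf := Scheme.Modules.pullbackPushforwardAdjunction A.hom
  let adje := Scheme.Modules.pullbackPushforwardAdjunction e
  haveI : IsIso (adjf.comp adje).unit := isIso_unit_comp A.hom e hef
  have hC : FlatMod.IsFinLocFree C :=
    Groth.Agent.PerfLib.isFinLocFree_of_iso
      ((Scheme.Modules.pullback e).mapIso θ ≪≫
        ((Scheme.Modules.pushforwardComp e A.hom ≪≫ Scheme.Modules.pushforwardCongr hef ≪≫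
          Scheme.Modules.pushforwardId S).app
            ((Scheme.Modules.pullback e).obj ((Scheme.Modules.pullback A.hom).obj C))).symm ≪≫
        (asIso ((adjf.comp adje).unit.app C)).symm)
      (CohCmpLib.isFinLocFree_pb _ (SmDefLib.isFinLocFree_omega A.hom))
  haveI := isIso_unit (E := C) A.hom (H0Lib.bijective_app_of_geometrically A.hom) hC
  have b1 : Function.Bijective ((adjf.unit.app C).app ⊤).hom := ConcreteCategory.bijective_of_isIso _
  have b2 : Function.Bijective (((adjf.comp adje).unit.app C).app ⊤).hom := ConcreteCategory.bijective_of_isIso _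
  rw [show (((adjf.comp adje).unit.app C).app ⊤).hom =
    (((adje.unit.app ((Scheme.Modules.pullback A.hom).obj C)).app ⊤).hom : _ →+ _).comp ((adjf.unit.app C).app ⊤).hom
    from rfl] at b2
  have b3 : Function.Bijective ((adje.unit.app ((Scheme.Modules.pullback A.hom).obj C)).app ⊤).hom :=
    (Function.Bijective.of_comp_iff _ b1).1 b2
  have hnat := adje.unit.naturality θ.hom
  have t1 : Function.Bijective (θ.hom.app ⊤).hom := ConcreteCategory.bijective_of_isIso _
  have t2 : Function.Bijective
      (((Scheme.Modules.pushforward e).map ((Scheme.Modules.pullback e).map θ.hom)).app ⊤).hom :=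
    ConcreteCategory.bijective_of_isIso _
  refine (Function.Bijective.of_comp_iff' t2 _).1 ?_
  have : (((Scheme.Modules.pushforward e).map ((Scheme.Modules.pullback e).map θ.hom)).app ⊤).hom ∘
      ((adje.unit.app (Omega.sheaf A.hom)).app ⊤).hom =
      ((adje.unit.app ((Scheme.Modules.pullback A.hom).obj C)).app ⊤).hom ∘ (θ.hom.app ⊤).hom := by
    funext x
    exact (congr($(hnat).app ⊤ x)).symm
  rw [this]
  exact b3.comp t1

end Groth.Agent.InvDiff

end
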